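import Mathlib

/-!
# Algebraic core for generators along a stratification
-/

set_option autoImplicit false
universe u
open TensorProduct

namespace Groth.Agent.H3.Nis

variable {R : Type u} [CommRing R]

/-- If the images of `t i` generate `(R/J) ⊗ M` over `R/J`, then `(R/J) ⊗ (M / span t)` vanishes. -/
theorem subsingleton_tensor_quotient_span {M : Type u} [AddCommGroup M] [Module R M]
    (J : Ideal R) {N : ℕ} (t : Fin N → M)
    (ht : Submodule.span (R ⧸ J) (Set.range fun i => (1 : R ⧸ J) ⊗ₜ[R] t i) = ⊤) :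
    Subsingleton ((R ⧸ J) ⊗[R] (M ⧸ Submodule.span R (Set.range t))) := by
  let π : M →ₗ[R] M ⧸ Submodule.span R (Set.range t) := Submodule.mkQ _
  have hπ : Function.Surjective π := Submodule.mkQ_surjective _
  let P : (R ⧸ J) ⊗[R] M →ₗ[R ⧸ J] (R ⧸ J) ⊗[R] (M ⧸ Submodule.span R (Set.range t)) :=
    LinearMap.baseChange (R ⧸ J) π
  have hPs : Function.Surjective P := by
    change Function.Surjective (LinearMap.lTensor (R ⧸ J) π)
    exact LinearMap.lTensor_surjective _ hπ
  have hP0 : P = 0 := by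
    apply LinearMap.ext_on ht
    rintro _ ⟨i, rfl⟩
    change (LinearMap.baseChange (R ⧸ J) π) ((1 : R ⧸ J) ⊗ₜ[R] t i) = 0
    rw [LinearMap.baseChange_tmul]
    have : π (t i) = 0 := by
      change Submodule.Quotient.mk (t i) = 0
      rw [Submodule.Quotient.mk_eq_zero]
      exact Submodule.subset_span ⟨i, rfl⟩
    rw [this, TensorProduct.tmul_zero]
  constructor
  intro a b
  obtain ⟨a', rfl⟩ := hPs a
  obtain ⟨b', rfl⟩ := hPs b
  rw [hP0]
  rfl

/-- vanishing of `(R/J) ⊗ Q` for a finite module `Q` means the support of `Q` misses `V(J)`. -/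
theorem support_inter_zeroLocus_eq_empty {Q : Type u} [AddCommGroup Q] [Module R Q]
    [Module.Finite R Q] (J : Ideal R) (h : Subsingleton ((R ⧸ J) ⊗[R] Q)) :
    Module.support R Q ∩ PrimeSpectrum.zeroLocus (J : Set R) = ∅ := by
  rw [← Module.support_quotient J]
  haveI : Subsingleton (Q ⧸ (J • ⊤ : Submodule R Q)) :=
    (TensorProduct.quotTensorEquivQuotSMul Q J).symm.toEquiv.subsingleton
  exact Module.support_eq_empty

/-- generators of `(R/J) ⊗ M` over `R/J` lift to `M`. -/
theorem exists_lift_generators {M : Type u} [AddCommGroup M] [Module R M]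
    (J : Ideal R) {N : ℕ} (c : Fin N → (R ⧸ J) ⊗[R] M)
    (hc : Submodule.span (R ⧸ J) (Set.range c) = ⊤) :
    ∃ t : Fin N → M, Subsingleton ((R ⧸ J) ⊗[R] (M ⧸ Submodule.span R (Set.range t))) := by
  have hs : Function.Surjective (TensorProduct.mk R (R ⧸ J) M 1) :=
    TensorProduct.mk_surjective R M (R ⧸ J) Ideal.Quotient.mk_surjective
  choose t ht using fun i => hs (c i)
  refine ⟨t, subsingleton_tensor_quotient_span J t ?_⟩
  have : (fun i => (1 : R ⧸ J) ⊗ₜ[R] t i) = c := funext ht
  rw [this]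
  exact hc

end Groth.Agent.H3.Nis
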