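import Groth.Agent.Lib.Helper3.Nis.Alg
import Groth.Agent.Lib.Helper3.CounitLim.A
import Groth.Agent.Lib.Lead.QC.Pullback
import Groth.Agent.Lib.Lead.QC.LocFree

/-!
# Generators of a module from generators of its pullback to a closed subscheme
-/

set_option autoImplicit false
universe u
open CategoryTheory Limits AlgebraicGeometry TensorProduct

namespace Groth.Agent.H3.Nis

open Groth.Agent.LD.QC Groth.Agent.H3.CounitLim

/-- an epimorphism from a free module of rank `N` onto the pullback of `M'~` to `Spec (R/J)` gives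
`N` generators of `(R/J) ⊗ M'`. -/
theorem exists_generators_of_epi_pullback_tilde (R : CommRingCat.{u}) (J : Ideal R)
    (M' : ModuleCat.{u} R) (N : ℕ)
    (p : freeMod (Spec (CommRingCat.of (R ⧸ J))) N ⟶
      (Scheme.Modules.pullback (Spec.map (CommRingCat.ofHom (algebraMap R (R ⧸ J))))).obj
        (tilde M')) (hp : Epi p) :
    ∃ c : Fin N → (R ⧸ J) ⊗[R] M', Submodule.span (R ⧸ J) (Set.range c) = ⊤ := by
  obtain ⟨φ, hφ⟩ : ∃ φ : R ⟶ CommRingCat.of (R ⧸ J),
      φ = CommRingCat.ofHom (algebraMap R (R ⧸ J)) := ⟨_, rfl⟩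
  obtain ⟨ψ, hψ⟩ : ∃ ψ : tilde (ModuleCat.of (CommRingCat.of (R ⧸ J))
        (ULift.{u} (Fin N) →₀ (CommRingCat.of (R ⧸ J)))) ⟶
      tilde ((ModuleCat.extendScalars.{u, u, u} (algebraMap R (R ⧸ J))).obj M'),
      ψ = (freeModTildeIso (CommRingCat.of (R ⧸ J)) N).inv ≫ p ≫
        (tildePullbackIso (CommRingCat.ofHom (algebraMap R (R ⧸ J)))).hom.app M' := ⟨_, rfl⟩
  have hψe : Epi ψ := by
    have h1 : IsIso ((tildePullbackIso (CommRingCat.ofHom (algebraMap R (R ⧸ J)))).hom.app M') :=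
      (((tildePullbackIso (CommRingCat.ofHom (algebraMap R (R ⧸ J)))).app M')).isIso_hom
    have h1' : Epi ((tildePullbackIso (CommRingCat.ofHom (algebraMap R (R ⧸ J)))).hom.app M') :=
      @IsIso.epi_of_iso _ _ _ _ _ h1
    have h2 : Epi (p ≫ (tildePullbackIso (CommRingCat.ofHom (algebraMap R (R ⧸ J)))).hom.app M') :=
      @epi_comp _ _ _ _ _ p hp _ h1'
    have h3 : IsIso (freeModTildeIso (CommRingCat.of (R ⧸ J)) N).inv :=
      (freeModTildeIso (CommRingCat.of (R ⧸ J)) N).isIso_inv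
    have h3' : Epi (freeModTildeIso (CommRingCat.of (R ⧸ J)) N).inv :=
      @IsIso.epi_of_iso _ _ _ _ _ h3
    rw [hψ]
    exact @epi_comp _ _ _ _ _ _ h3' _ h2
  obtain ⟨ℓ, hℓ⟩ : ∃ ℓ : ModuleCat.of (CommRingCat.of (R ⧸ J))
        (ULift.{u} (Fin N) →₀ (CommRingCat.of (R ⧸ J))) ⟶
      (ModuleCat.extendScalars.{u, u, u} (algebraMap R (R ⧸ J))).obj M',
      (tilde.functor (CommRingCat.of (R ⧸ J))).map ℓ = ψ :=
    ⟨(tilde.fullyFaithfulFunctor (R := CommRingCat.of (R ⧸ J))).preimage ψ,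
      (tilde.fullyFaithfulFunctor (R := CommRingCat.of (R ⧸ J))).map_preimage ψ⟩
  haveI : Epi ((tilde.functor (CommRingCat.of (R ⧸ J))).map ℓ) := by rw [hℓ]; exact hψe
  haveI : (tilde.functor (CommRingCat.of (R ⧸ J))).Faithful :=
    (tilde.fullyFaithfulFunctor (R := CommRingCat.of (R ⧸ J))).faithful
  haveI : (tilde.functor (CommRingCat.of (R ⧸ J))).ReflectsEpimorphisms :=
    Functor.reflectsEpimorphisms_of_faithful _
  haveI : Epi ℓ := (tilde.functor (CommRingCat.of (R ⧸ J))).epi_of_epi_map inferInstance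
  obtain ⟨e⟩ := nonempty_extendScalars_iso R (R ⧸ J) M'
  let L : (ULift.{u} (Fin N) →₀ (R ⧸ J)) →ₗ[R ⧸ J] (R ⧸ J) ⊗[R] M' := (ℓ ≫ e.hom).hom
  have hL : Function.Surjective L := (ModuleCat.epi_iff_surjective (ℓ ≫ e.hom)).mp inferInstance
  refine ⟨fun i => L (Finsupp.single ⟨i⟩ 1), ?_⟩
  have h1 : L = Finsupp.linearCombination (R ⧸ J) (fun j => L (Finsupp.single j 1)) := by
    apply Finsupp.lhom_ext'
    intro j
    apply LinearMap.ext_ring
    simp
  have h2 : LinearMap.range L = ⊤ := LinearMap.range_eq_top.mpr hL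
  rw [h1, Finsupp.range_linearCombination] at h2
  rw [← h2]
  congr 1
  ext x
  constructor
  · rintro ⟨i, rfl⟩
    exact ⟨⟨i⟩, rfl⟩
  · rintro ⟨⟨i⟩, rfl⟩
    exact ⟨i, rfl⟩

/-- generators over a closed subscheme of `Spec R` through which a cover with generated pullback
factors. -/
theorem exists_of_closedImmersion (R : CommRingCat.{u}) (M M' : ModuleCat.{u} R) (q : M ⟶ M')
    [Epi q] {U T : Scheme.{u}} (f : U ⟶ Spec R) (N : ℕ)
    (hgen : ∃ φ : FlatMod.freeMod U N ⟶ (Scheme.Modules.pullback f).obj (tilde M), Epi φ)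
    (g : T ⟶ Spec R) [IsClosedImmersion g] (σ : T ⟶ U) (hσ : σ ≫ f = g) :
    ∃ (J : Ideal R) (t : Fin N → M'),
      (Set.range g : Set (PrimeSpectrum R)) = PrimeSpectrum.zeroLocus (J : Set R) ∧
      Subsingleton ((R ⧸ J) ⊗[R] (M' ⧸ Submodule.span R (Set.range t))) := by
  obtain ⟨J, e, he⟩ := (IsClosedImmersion.Spec_iff (f := g)).mp inferInstance
  have h0 : Gen' f (freeMod (Spec R) N) (tilde M) := (gen'_freeMod_iff f N _).mpr hgen
  have h1 : Gen' f (freeMod (Spec R) N) (tilde M') := by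
    obtain ⟨p, hp⟩ := h0
    haveI := hp
    haveI : (tilde.functor R).PreservesEpimorphisms :=
      Functor.preservesEpimorphisms_of_adjunction (tilde.adjunction (R := R))
    haveI : (Scheme.Modules.pullback f).PreservesEpimorphisms :=
      Functor.preservesEpimorphisms_of_adjunction (Scheme.Modules.pullbackPushforwardAdjunction f)
    have e1 : Epi ((tilde.functor R).map q) := (tilde.functor R).map_epi q
    have e2 : Epi ((Scheme.Modules.pullback f).map ((tilde.functor R).map q)) :=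
      @Functor.map_epi _ _ _ _ (Scheme.Modules.pullback f) _ _ _ _ e1
    exact ⟨p ≫ (Scheme.Modules.pullback f).map ((tilde.functor R).map q),
      @epi_comp _ _ _ _ _ p hp _ e2⟩
  have h2 : Gen' g (freeMod (Spec R) N) (tilde M') := (h1.comp σ).congr hσ
  have h3 : Gen' (Spec.map (CommRingCat.ofHom (algebraMap R (R ⧸ J)))) (freeMod (Spec R) N)
      (tilde M') := by
    refine (h2.comp e.inv).congr ?_
    rw [he, Iso.inv_hom_id_assoc]
  obtain ⟨p, hp⟩ := (gen'_freeMod_iff _ N _).mp h3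
  obtain ⟨c, hc⟩ := exists_generators_of_epi_pullback_tilde R J M' N p hp
  obtain ⟨t, ht⟩ := exists_lift_generators J c hc
  refine ⟨J, t, ?_, ht⟩
  have hsurj : Function.Surjective e.hom := e.hom.homeomorph.surjective
  have hr : Set.range g = Set.range (Spec.map (CommRingCat.ofHom (Ideal.Quotient.mk J))) := by
    rw [he]
    change Set.range (Spec.map (CommRingCat.ofHom (Ideal.Quotient.mk J)) ∘ e.hom) = _
    rw [Set.range_comp, hsurj.range_eq, Set.image_univ]
  have hz : (Set.range (Spec.map (CommRingCat.ofHom (Ideal.Quotient.mk J))) :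
      Set (PrimeSpectrum R)) = PrimeSpectrum.zeroLocus (J : Set R) := by
    change Set.range (PrimeSpectrum.comap (Ideal.Quotient.mk J)) = _
    rw [_root_.range_comap_of_surjective _ _ Ideal.Quotient.mk_surjective, Ideal.mk_ker]
  exact hr.trans hz

end Groth.Agent.H3.Nis
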