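import Groth.Agent.Lib.Helper3.Nis.Geo
import Groth.Prelude.Def_W4c5algebraiztannakaNis

/-!
# Generators of a module from generators on a Nisnevich cover of bounded length
-/

set_option autoImplicit false
universe u
open CategoryTheory Limits AlgebraicGeometry TensorProduct

namespace Groth.Agent.H3.Nis

open Groth.Agent.LD.QC

/-- one stratum: kill the support over the next closed piece with `N` more generators. -/
theorem exists_generators_step (R : CommRingCat.{u}) (M M' : ModuleCat.{u} R) (q : M ⟶ M')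
    [Epi q] [Module.Finite R M'] {U : Scheme.{u}} (f : U ⟶ Spec R) (N : ℕ)
    (hgen : ∃ φ : FlatMod.freeMod U N ⟶ (Scheme.Modules.pullback f).obj (tilde M), Epi φ)
    (Z₀ Z₁ : Set (PrimeSpectrum R)) (hZ₁ : IsClosed (Z₁ : Set (Spec R)))
    (hsec : W4c5algebraiztannaka.HasSectOver f (Z₁ \ Z₀))
    (h0 : Module.support R M' ∩ Z₀ = ∅) :
    ∃ t : Fin N → M', Module.support R (M' ⧸ Submodule.span R (Set.range t)) ∩ Z₁ = ∅ := by
  obtain ⟨J, hJ⟩ : ∃ J : Ideal R, J = Module.annihilator R M' := ⟨_, rfl⟩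
  have hsupp : Module.support R M' = PrimeSpectrum.zeroLocus (J : Set R) := by
    rw [hJ]; exact Module.support_eq_zeroLocus
  obtain ⟨c, hc⟩ : ∃ c : Spec (CommRingCat.of (R ⧸ J)) ⟶ Spec R,
      c = Spec.map (CommRingCat.ofHom (Ideal.Quotient.mk J)) := ⟨_, rfl⟩
  haveI : IsClosedImmersion c := by
    rw [hc]
    exact IsClosedImmersion.spec_of_surjective _ Ideal.Quotient.mk_surjective
  have hrc : (Set.range c : Set (PrimeSpectrum R)) = Module.support R M' := by
    rw [hsupp, hc]
    change Set.range (PrimeSpectrum.comap (Ideal.Quotient.mk J)) = _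
    rw [_root_.range_comap_of_surjective _ _ Ideal.Quotient.mk_surjective, Ideal.mk_ker]
  obtain ⟨T, g, s, hg, hrange, hs⟩ := hsec
  haveI := hg
  have hr2 : Set.range (pullback.snd g c) = c ⁻¹' (Z₁ : Set (Spec R)) := by
    rw [Scheme.Pullback.range_snd]
    ext y
    constructor
    · rintro ⟨z, hz⟩
      have : (g z : Spec R) ∈ (Z₁ \ Z₀ : Set (Spec R)) := by
        rw [← hrange]; exact ⟨z, rfl⟩
      rw [hz] at this
      exact this.1
    · intro hy
      have hy0 : (c y : Spec R) ∉ (Z₀ : Set (Spec R)) := by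
        intro hy0
        have h1 : (c y : PrimeSpectrum R) ∈ Module.support R M' := by
          rw [← hrc]; exact ⟨y, rfl⟩
        have : (c y : PrimeSpectrum R) ∈ Module.support R M' ∩ Z₀ := ⟨h1, hy0⟩
        rw [h0] at this
        exact this
      have : (c y : Spec R) ∈ Set.range (fun t : T => g t) := by
        rw [hrange]; exact ⟨hy, hy0⟩
      exact this
  haveI : IsClosedImmersion (pullback.snd g c) := by
    apply IsClosedImmersion.of_isPreimmersion
    rw [hr2]
    exact hZ₁.preimage c.continuous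
  obtain ⟨J', t, hJ', ht⟩ := exists_of_closedImmersion R M M' q f N hgen
    (pullback.snd g c ≫ c) (pullback.fst g c ≫ s)
    (by rw [Category.assoc, hs, pullback.condition])
  refine ⟨t, ?_⟩
  have hQ := support_inter_zeroLocus_eq_empty (Q := M' ⧸ Submodule.span R (Set.range t)) J' ht
  rw [Set.eq_empty_iff_forall_notMem]
  rintro x ⟨hx1, hx2⟩
  have hxM : x ∈ Module.support R M' :=
    Module.support_subset_of_surjective _ (Submodule.mkQ_surjective _) hx1
  rw [← hrc] at hxM
  obtain ⟨y, rfl⟩ := hxM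
  have hy : y ∈ Set.range (pullback.snd g c) := by
    rw [hr2]; exact hx2
  obtain ⟨z, rfl⟩ := hy
  have hz : (c (pullback.snd g c z) : PrimeSpectrum R) ∈ PrimeSpectrum.zeroLocus (J' : Set R) := by
    rw [← hJ']
    exact ⟨z, rfl⟩
  have : (c (pullback.snd g c z) : PrimeSpectrum R) ∈
      Module.support R (M' ⧸ Submodule.span R (Set.range t)) ∩
        PrimeSpectrum.zeroLocus (J' : Set R) := ⟨hx1, hz⟩
  rw [hQ] at this
  exact this

/-- the induction along the flag. -/
theorem exists_finset_generators (R : CommRingCat.{u}) (M : ModuleCat.{u} R) [Module.Finite R M]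
    {U : Scheme.{u}} (f : U ⟶ Spec R) (m N : ℕ)
    (hgen : ∃ φ : FlatMod.freeMod U N ⟶ (Scheme.Modules.pullback f).obj (tilde M), Epi φ)
    (Z : Fin (m + 1) → Set (Spec R)) (hZ0 : Z 0 = ∅)
    (hZc : ∀ k, IsClosed (Z k))
    (hsec : ∀ k : Fin m, W4c5algebraiztannaka.HasSectOver f (Z k.succ \ Z k.castSucc))
    (k : ℕ) (hk : k ≤ m) :
    ∃ S : Finset M, S.card ≤ N * k ∧
      Module.support R (M ⧸ Submodule.span R (S : Set M)) ∩
        (Z ⟨k, Nat.lt_succ_of_le hk⟩ : Set (PrimeSpectrum R)) = ∅ := by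
  classical
  induction k with
  | zero =>
    refine ⟨∅, by simp, ?_⟩
    have : (⟨0, Nat.lt_succ_of_le hk⟩ : Fin (m + 1)) = 0 := rfl
    rw [this, hZ0]
    exact Set.inter_empty _
  | succ k ih =>
    obtain ⟨S, hScard, hS⟩ := ih (Nat.le_of_succ_le hk)
    have hkm : k < m := hk
    have hsec' := hsec ⟨k, hkm⟩
    have e1 : (Fin.succ ⟨k, hkm⟩ : Fin (m + 1)) = ⟨k + 1, Nat.lt_succ_of_le hk⟩ := rfl
    have e2 : (Fin.castSucc ⟨k, hkm⟩ : Fin (m + 1)) =
        ⟨k, Nat.lt_succ_of_le (Nat.le_of_succ_le hk)⟩ := rfl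
    rw [e1, e2] at hsec'
    let A : Submodule R M := Submodule.span R (S : Set M)
    let q : M ⟶ ModuleCat.of R (M ⧸ A) := ModuleCat.ofHom A.mkQ
    haveI : Epi q := (ModuleCat.epi_iff_surjective q).mpr A.mkQ_surjective
    haveI : Module.Finite R (ModuleCat.of R (M ⧸ A)) :=
      inferInstanceAs (Module.Finite R (M ⧸ A))
    obtain ⟨t, ht⟩ := exists_generators_step R M (ModuleCat.of R (M ⧸ A)) q f N hgen
      (Z ⟨k, Nat.lt_succ_of_le (Nat.le_of_succ_le hk)⟩) (Z ⟨k + 1, Nat.lt_succ_of_le hk⟩)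
      (hZc _) hsec' hS
    choose t' ht' using fun i => A.mkQ_surjective (t i)
    refine ⟨S ∪ Finset.image t' Finset.univ, ?_, ?_⟩
    · calc (S ∪ Finset.image t' Finset.univ).card
          ≤ S.card + (Finset.image t' Finset.univ).card := Finset.card_union_le _ _
        _ ≤ N * k + N := by
            refine Nat.add_le_add hScard ?_
            calc (Finset.image t' Finset.univ).card ≤ (Finset.univ : Finset (Fin N)).card :=
                  Finset.card_image_le
              _ = N := by simp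
        _ = N * (k + 1) := by ring
    · let A' : Submodule R M := Submodule.span R ((S ∪ Finset.image t' Finset.univ : Finset M) : Set M)
      have hAA' : A ≤ A' := Submodule.span_mono (by
        intro x hx
        exact Finset.mem_coe.mpr (Finset.mem_union_left _ (Finset.mem_coe.mp hx)))
      let g₁ : (M ⧸ A) →ₗ[R] M ⧸ A' := Submodule.mapQ A A' LinearMap.id hAA'
      have hg₁ : Submodule.span R (Set.range t) ≤ LinearMap.ker g₁ := by
        rw [Submodule.span_le]
        rintro _ ⟨i, rfl⟩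
        rw [SetLike.mem_coe, LinearMap.mem_ker, ← ht' i]
        change Submodule.mapQ A A' LinearMap.id hAA' (Submodule.Quotient.mk (t' i)) = 0
        rw [Submodule.mapQ_apply, LinearMap.id_apply, Submodule.Quotient.mk_eq_zero]
        apply Submodule.subset_span
        exact Finset.mem_coe.mpr (Finset.mem_union_right _
          (Finset.mem_image.mpr ⟨i, Finset.mem_univ _, rfl⟩))
      let g₂ : ((M ⧸ A) ⧸ Submodule.span R (Set.range t)) →ₗ[R] M ⧸ A' :=
        Submodule.liftQ _ g₁ hg₁
      have hg₂ : Function.Surjective g₂ := by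
        intro y
        obtain ⟨x, rfl⟩ := A'.mkQ_surjective y
        refine ⟨Submodule.Quotient.mk (Submodule.Quotient.mk x), ?_⟩
        change Submodule.liftQ _ g₁ hg₁ (Submodule.Quotient.mk (Submodule.Quotient.mk x)) = _
        rw [Submodule.liftQ_apply]
        change Submodule.mapQ A A' LinearMap.id hAA' (Submodule.Quotient.mk x) = _
        rw [Submodule.mapQ_apply]
        rfl
      have hsub := Module.support_subset_of_surjective g₂ hg₂
      rw [Set.eq_empty_iff_forall_notMem]
      rintro x ⟨hx1, hx2⟩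
      have : x ∈ Module.support R ((M ⧸ A) ⧸ Submodule.span R (Set.range t)) ∩
          (Z ⟨k + 1, Nat.lt_succ_of_le hk⟩ : Set (PrimeSpectrum R)) := ⟨hsub hx1, hx2⟩
      rw [ht] at this
      exact this

/-- **S17867** -/
theorem exists_generators (R : CommRingCat.{u}) (M : ModuleCat.{u} R) [Module.Finite R M]
    {U : Scheme.{u}} (f : U ⟶ Spec R) (m N : ℕ)
    (hf : W4c5algebraiztannaka.IsNisCoverLen f m)
    (hgen : ∃ φ : FlatMod.freeMod U N ⟶ (Scheme.Modules.pullback f).obj (tilde M), Epi φ) :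
    ∃ s : Fin (N * m) → M, Submodule.span R (Set.range s) = ⊤ := by
  classical
  obtain ⟨Z, hZ0, hZlast, -, hZc, hsec⟩ := hf.flag
  obtain ⟨S, hScard, hS⟩ := exists_finset_generators R M f m N hgen Z hZ0 (fun k => (hZc k).1) hsec
    m le_rfl
  have hlast : (⟨m, Nat.lt_succ_of_le le_rfl⟩ : Fin (m + 1)) = Fin.last m := rfl
  rw [hlast, hZlast] at hS
  have hS' : Module.support R (M ⧸ Submodule.span R (S : Set M)) = ∅ := by
    rw [← hS]
    exact (Set.inter_univ _).symm
  rw [Module.support_eq_empty_iff] at hS'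
  have htop : Submodule.span R (S : Set M) = ⊤ :=
    Submodule.Quotient.subsingleton_iff.mp hS'
  refine ⟨fun i => if h : i.val < S.card then ((S.equivFin.symm ⟨i.val, h⟩ : S) : M) else 0, ?_⟩
  rw [eq_top_iff, ← htop]
  apply Submodule.span_mono
  intro x hx
  have hx' : x ∈ S := Finset.mem_coe.mp hx
  let j := S.equivFin ⟨x, hx'⟩
  have hj : j.val < N * m := lt_of_lt_of_le j.isLt hScard
  refine ⟨⟨j.val, hj⟩, ?_⟩
  have hj' : (⟨j.val, hj⟩ : Fin (N * m)).val < S.card := j.isLt
  change (if h : j.val < S.card then ((S.equivFin.symm ⟨j.val, h⟩ : S) : M) else 0) = x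
  rw [dif_pos hj']
  have : (⟨j.val, hj'⟩ : Fin S.card) = j := rfl
  rw [this]
  simp [j]

end Groth.Agent.H3.Nis
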